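import Cfsg.Agent.PushUpTransfer.Block
import Cfsg.Agent.Components.Misc.PMinimalComp

/-!
For odd `p`, in a group of characteristic `p` without a normal characteristic subgroup of a Sylow subgroup,
`O_p ∩ G'` is controlled by the proper overgroups of that Sylow subgroup.
-/

set_option autoImplicit false
set_option linter.style.haveILetI false

namespace Cfsg.Lib.PushUpTransfer

open Subgroup
open scoped commutatorElement

universe u

variable {p : ℕ} [hp : Fact p.Prime] {L : Type u} [Group L] [Finite L]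

omit hp in
theorem comm_mem_of_closure {Q D : Subgroup L} [Q.Normal] {X : Set L} (hX : ∀ g ∈ X, ∀ q ∈ Q, ⁅q, g⁆ ∈ D) :
    ∀ g ∈ closure X, ∀ q ∈ Q, ⁅q, g⁆ ∈ D := by
  intro g hg
  rw [← mem_toSubmonoid, closure_toSubmonoid_of_finite] at hg
  induction hg using Submonoid.closure_induction with
  | mem x hx => exact hX x hx
  | one => intro q _; simp
  | mul g h _ _ ihg ihh =>
    intro q hq
    have hr : ⁅q, h⁆ ∈ Q := by
      rw [show ⁅q, h⁆ = q * (h * q⁻¹ * h⁻¹) by simp only [commutatorElement_def]; group]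
      exact mul_mem hq (Normal.conj_mem inferInstance _ (inv_mem hq) h)
    rw [show ⁅q, g * h⁆ = ⁅q, g⁆ * (⁅⁅q, h⁆, g⁆⁻¹ * ⁅q, h⁆) by simp only [commutatorElement_def]; group]
    exact mul_mem (ihg q hq) (mul_mem (inv_mem (ihg _ hr)) (ihh q hq))

theorem baumann_char (T : Subgroup L) : ((Cfsg.baumannSubgroupOf p T).subgroupOf T).Characteristic := by
  set Y := Cfsg.omegaCenterThompson p ↥T with hY
  have heq : (Cfsg.baumannSubgroupOf p T).subgroupOf T = centralizer (Y : Set ↥T) := by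
    ext x
    rw [Subgroup.mem_subgroupOf, Cfsg.baumannSubgroupOf, ← Cfsg.Lib.ZJ.omegaCenterThompson_map_subtype, mem_inf,
      mem_centralizer_iff, mem_centralizer_iff]
    constructor
    · intro h y hy
      exact Subtype.ext (h.2 y ⟨y, hy, rfl⟩)
    · intro h
      refine ⟨x.2, ?_⟩
      rintro _ ⟨y, hy, rfl⟩
      exact congrArg Subtype.val (h y hy)
  haveI hJ : (Cfsg.thompsonSubgroup p ↥T).Characteristic := (Cfsg.Agent.S0602.result (G := ↥T) (p := p)).1
  have hYc : ∀ e : ↥T ≃* ↥T, Y.map e.toMonoidHom = Y := fun e => by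
    rw [hY, Cfsg.omegaCenterThompson, Cfsg.Lib.ZJ.map_omegaOne, Subgroup.map_inf _ _ _ e.injective,
      Cfsg.Lib.ZJ.map_centralizer_equiv, characteristic_iff_map_eq.1 hJ e]
  rw [heq]
  exact characteristic_iff_map_eq.2 fun e => by rw [Cfsg.Lib.ZJ.map_centralizer_equiv, hYc]

theorem char_of_char_baumann {T C : Subgroup L} (hC : C ≤ Cfsg.baumannSubgroupOf p T)
    (hCc : (C.subgroupOf (Cfsg.baumannSubgroupOf p T)).Characteristic) : (C.subgroupOf T).Characteristic := by
  have hB := baumann_char (p := p) T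
  have hBT : Cfsg.baumannSubgroupOf p T ≤ T := inf_le_left
  set B := Cfsg.baumannSubgroupOf p T
  refine characteristic_iff_map_le.2 fun e => ?_
  rintro _ ⟨x, hx, rfl⟩
  have hmap : ∀ y : ↥T, (y : L) ∈ B → (e y : L) ∈ B := fun y hy =>
    (characteristic_iff_map_le.1 hB e : _) ⟨y, hy, rfl⟩
  let ψ : ↥B →* ↥B :=
    { toFun := fun y => ⟨e ⟨y, hBT y.2⟩, hmap _ y.2⟩
      map_one' := Subtype.ext (by simp)
      map_mul' := fun a b => Subtype.ext (by
        show ((e ⟨(a : L) * b, _⟩ : ↥T) : L) = _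
        rw [show (⟨(a : L) * b, hBT (mul_mem a.2 b.2)⟩ : ↥T) = ⟨a, hBT a.2⟩ * ⟨b, hBT b.2⟩ from rfl, map_mul]
        rfl) }
  have hinj : Function.Injective ψ := fun a b h => by
    have h1 : e ⟨a, hBT a.2⟩ = e ⟨b, hBT b.2⟩ := Subtype.ext (congrArg (fun z : ↥B => (z : L)) h)
    exact Subtype.ext (congrArg (fun z : ↥T => (z : L)) (e.injective h1))
  let ψe : ↥B ≃* ↥B := MulEquiv.ofBijective ψ ⟨hinj, (Finite.injective_iff_surjective).1 hinj⟩
  exact (characteristic_iff_map_le.1 hCc ψe : _) ⟨⟨x, hC hx⟩, hx, rfl⟩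

theorem core_le_of_family {𝓑 : Set (Subgroup L)} (hconj : ∀ E ∈ 𝓑, ∀ g : L, E.map (MulAut.conj g).toMonoidHom ∈ 𝓑)
    (hcomm : ∀ E ∈ 𝓑, ∀ E' ∈ 𝓑, E ≠ E' → ⁅E, E'⁆ = ⊥) {E : Subgroup L} (hE : E ∈ 𝓑) :
    Cfsg.pCoreOf p E ≤ Cfsg.pCore p L := by
  set P := sSup 𝓑 with hP
  haveI : P.Normal := by
    refine ⟨fun x hx g => ?_⟩
    have hle : P.map (MulAut.conj g).toMonoidHom ≤ P := by
      rw [hP, (gc_map_comap _).l_sSup]
      exact iSup₂_le fun A hA => le_sSup (hconj A hA g)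
    exact hle ⟨x, hx, rfl⟩
  have hQE : Cfsg.pCoreOf p E ≤ E := map_subtype_le _
  have hQP : Cfsg.pCoreOf p E ≤ P := hQE.trans (le_sSup hE)
  have hn : P ≤ normalizer (Cfsg.pCoreOf p E : Set L) := sSup_le fun A hA => by
    by_cases h : E = A
    · exact h ▸ le_normalizer_core p E
    intro a ha
    rw [mem_normalizer_iff]
    have hc : ∀ y ∈ E, a * y * a⁻¹ = y := fun y hy => by
      have h1 : y * a = a * y :=
        (mem_centralizer_iff.1 (commutator_eq_bot_iff_le_centralizer.1 (hcomm E hE A hA h) hy) a ha).symm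
      rw [← h1, mul_inv_cancel_right]
    intro y
    constructor
    · intro hy
      rw [hc y (hQE hy)]
      exact hy
    · intro hy
      have h3 : a * y * a⁻¹ = y := by
        have := hc _ (hQE hy)
        exact (mul_left_cancel (mul_right_cancel this))
      rwa [h3] at hy
  haveI : ((Cfsg.pCoreOf p E).subgroupOf P).Normal := normal_subgroupOf_of_le_normalizer hn
  have hp' : IsPGroup p (Cfsg.pCoreOf p E) := (Cfsg.Lib.Components.isPGroup_pCore p).map _
  have h1 := map_mono (f := P.subtype) (le_sSup ⟨inferInstance, hp'.comap_subtype⟩ :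
    (Cfsg.pCoreOf p E).subgroupOf P ≤ Cfsg.pCore p ↥P)
  rw [map_subgroupOf_eq_of_le hQP] at h1
  haveI : (Cfsg.pCore p ↥P).Characteristic := Cfsg.Lib.Components.pCore_characteristic
  exact h1.trans (le_sSup ⟨(ConjAct.normal_of_characteristic_of_normal : ((Cfsg.pCore p ↥P).map P.subtype).Normal),
    (Cfsg.Lib.Components.isPGroup_pCore p).map _⟩)

/-- The heart of control of transfer at odd primes. -/
theorem crit (hp2 : p ≠ 2) (hL : centralizer (Cfsg.pCore p L : Set L) ≤ Cfsg.pCore p L) (T : Sylow p L)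
    (D : Subgroup L) (hD : ⁅(T : Subgroup L), (T : Subgroup L)⁆ ≤ D)
    (hM : ∀ M : Subgroup L, M ≠ ⊤ → (T : Subgroup L) ≤ M → (T : Subgroup L) ⊓ ⁅M, M⁆ ≤ D)
    (hchar : ∀ C : Subgroup L, C ≤ (T : Subgroup L) → C ≠ ⊥ → (C.subgroupOf (T : Subgroup L)).Characteristic →
      ¬ C.Normal) :
    Cfsg.pCore p L ⊓ commutator L ≤ D := by
  classical
  set Q := Cfsg.pCore p L with hQ
  have hQT : Q ≤ (T : Subgroup L) := Cfsg.Lib.Coprime.pCore_le_sylow p T
  have hQp : IsPGroup p Q := Cfsg.Lib.Components.isPGroup_pCore p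
  by_cases hT : (T : Subgroup L) = ⊥
  · rw [hT, le_bot_iff] at hQT
    rw [hQT, bot_inf_eq]
    exact bot_le
  have hTn : ¬ (T : Subgroup L).Normal := hchar _ le_rfl hT (by rw [subgroupOf_self]; infer_instance)
  have hfixM : ∀ M : Subgroup L, M ≠ ⊤ → (T : Subgroup L) ≤ M → ∀ g ∈ M, ∀ q ∈ Q, ⁅q, g⁆ ∈ D := by
    intro M hMne hTM g hg q hq
    refine hM M hMne hTM ⟨hQT ?_, commutator_mem_commutator (hTM (hQT hq)) hg⟩
    rw [show ⁅q, g⁆ = q * (g * q⁻¹ * g⁻¹) by simp only [commutatorElement_def]; group]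
    exact mul_mem hq (Normal.conj_mem inferInstance _ (inv_mem hq) g)
  have hfin : ∀ X : Set L, closure X = ⊤ → (∀ g ∈ X, ∀ q ∈ Q, ⁅q, g⁆ ∈ D) → Q ⊓ commutator L ≤ D :=
    fun X hX hfix => Cfsg.Lib.Control.inf_commutator_le_of_central T hD hQT fun q hq g =>
      comm_mem_of_closure hfix g (hX ▸ mem_top g) q hq
  obtain ⟨M, hMco, hTM⟩ := (eq_top_or_exists_le_coatom (T : Subgroup L)).resolve_left fun h =>
    hTn (h ▸ inferInstance)
  by_cases huniq : ∀ N : Subgroup L, IsCoatom N → (T : Subgroup L) ≤ N → N = M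
  swap
  · push Not at huniq
    obtain ⟨N, hN, hTN, hNM⟩ := huniq
    refine hfin ((M : Set L) ∪ N) ?_ fun g hg => ?_
    · rw [Subgroup.closure_union, closure_eq, closure_eq]
      exact hMco.2 _ (lt_of_le_of_ne le_sup_left fun e =>
        hMco.1 (hN.2 M (lt_of_le_of_ne (le_sup_right.trans e.ge) hNM)))
    · exact hg.elim (fun h => hfixM M hMco.1 hTM g h) (fun h => hfixM N hN.1 hTN g h)
  have hle : ∀ K : Subgroup L, (T : Subgroup L) ≤ K → K ≠ ⊤ → K ≤ M := fun K hK hK' => by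
    obtain ⟨N, hN, hKN⟩ := (eq_top_or_exists_le_coatom K).resolve_left hK'
    exact (huniq N hN (hK.trans hKN)) ▸ hKN
  have hmin : Cfsg.IsPMinimal p L := Cfsg.Lib.PMinimalComp.isPMinimal_of_one T hTn
    ⟨M, ⟨hMco, hTM⟩, fun N hN => huniq N hN.1 hN.2⟩
  have hB : ∀ C : Subgroup L, C ≤ Cfsg.baumannSubgroupOf p (T : Subgroup L) → C ≠ ⊥ →
      (C.subgroupOf (Cfsg.baumannSubgroupOf p (T : Subgroup L))).Characteristic → ¬ C.Normal :=
    fun C hC hne hc => hchar C (hC.trans inf_le_left) hne (char_of_char_baumann hC hc)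
  have hz : ¬ (Cfsg.omegaOneCenter p (T : Subgroup L)).Normal := by
    refine hchar _ (omegaCenter_le p _) ?_ ?_
    · haveI : Nontrivial ↥(T : Subgroup L) := (nontrivial_iff_ne_bot _).2 hT
      haveI := T.2.center_nontrivial
      obtain ⟨z, hz⟩ := exists_prime_orderOf_dvd_card' p (G := ↥(center ↥(T : Subgroup L))) (by
        obtain ⟨n, hn, h⟩ := (T.2.to_subgroup (center ↥(T : Subgroup L))).nontrivial_iff_card.1 inferInstance
        exact h ▸ dvd_pow_self p hn.ne')
      intro hbot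
      have hzm : ((z : ↥(T : Subgroup L)) : L) ∈ Cfsg.omegaOneCenter p (T : Subgroup L) := by
        refine subset_closure ⟨⟨(z : ↥(T : Subgroup L)).2, mem_centralizer_iff.2 fun s hs => ?_⟩, ?_⟩
        · exact congrArg Subtype.val (mem_center_iff.1 z.2 ⟨s, hs⟩)
        · have := pow_orderOf_eq_one z
          rw [hz] at this
          exact congrArg (fun y : ↥(center ↥(T : Subgroup L)) => ((y : ↥(T : Subgroup L)) : L)) this
      rw [hbot, mem_bot] at hzm
      rw [show z = 1 from Subtype.ext (Subtype.ext hzm), orderOf_one] at hz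
      exact hp.out.ne_one hz.symm
    · refine characteristic_iff_map_le.2 fun e => ?_
      rintro _ ⟨x, hx, rfl⟩
      rw [SetLike.mem_coe, mem_subgroupOf] at hx
      rw [mem_subgroupOf]
      have key : ∀ w, w ∈ Cfsg.omegaOneCenter p (T : Subgroup L) →
          ∀ hw : w ∈ (T : Subgroup L), (e ⟨w, hw⟩ : L) ∈ Cfsg.omegaOneCenter p (T : Subgroup L) := by
        intro w hw'
        have hwc : w ∈ (Cfsg.omegaOneCenter p (T : Subgroup L)) := hw'
        change w ∈ Subgroup.closure _ at hw'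
        induction hw' using closure_induction with
        | mem y hy =>
          intro hw
          refine subset_closure ⟨⟨(e ⟨y, hw⟩).2, mem_centralizer_iff.2 fun s hs => ?_⟩, ?_⟩
          · obtain ⟨s', hs'⟩ := e.surjective ⟨s, hs⟩
            have hcs : s' * ⟨y, hw⟩ = ⟨y, hw⟩ * s' := Subtype.ext (mem_centralizer_iff.1 hy.1.2 _ s'.2)
            have h2 := congrArg (fun y => ((e y : ↥(T : Subgroup L)) : L)) hcs
            simp only [map_mul, hs'] at h2
            exact h2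
          · rw [← Subgroup.coe_pow, ← map_pow, show (⟨y, hw⟩ : ↥(T : Subgroup L)) ^ p = 1 from Subtype.ext hy.2,
              map_one, Subgroup.coe_one]
        | one => intro hw; rw [show (⟨1, hw⟩ : ↥(T : Subgroup L)) = 1 from rfl, map_one]; exact one_mem _
        | mul a b ha hb iha ihb =>
          intro hw
          have hat := omegaCenter_le p _ ha
          have hbt := omegaCenter_le p _ hb
          rw [show (⟨a * b, hw⟩ : ↥(T : Subgroup L)) = ⟨a, hat⟩ * ⟨b, hbt⟩ from rfl, map_mul]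
          exact mul_mem (iha ha hat) (ihb hb hbt)
        | inv a ha iha =>
          intro hw
          have hat := omegaCenter_le p _ ha
          rw [show (⟨a⁻¹, hw⟩ : ↥(T : Subgroup L)) = ⟨a, hat⟩⁻¹ from rfl, map_inv]
          exact inv_mem (iha ha hat)
      exact key _ hx x.2
  obtain ⟨𝓑, ⟨hblk, hconj, hcomm, hgen, -, -, hkind⟩, -, -⟩ := Cfsg.Agent.S2982.result hmin hL T hB hz
  have hstar : Cfsg.cStarOf p (T : Subgroup L) ≤ M := by
    refine sup_le (hle _ (fun t ht => mem_centralizer_iff.2 fun z hz' => ?_) fun htop => hz ?_) (iSup_le ?_)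
    · exact (omegaCenter_comm p _ hz' ht).symm
    · exact Cfsg.Lib.PushUp.normal_of_le_center fun z hz' => mem_center_iff.2 fun g =>
        (mem_centralizer_iff.1 (htop ▸ mem_top g) z hz').symm
    · rintro ⟨C, hCB, hC1, hCc⟩
      refine hle _ ?_ fun htop => hB C hCB hC1 hCc (normalizer_eq_top_iff.1 htop)
      haveI := char_of_char_baumann hCB hCc
      exact (normal_subgroupOf_iff_le_normalizer (hCB.trans inf_le_left)).1 inferInstance
  have hED : ∀ E ∈ 𝓑, Cfsg.pCoreOf p E ≤ D := by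
    intro E hE
    have hEQ : Cfsg.pCoreOf p E ≤ (T : Subgroup L) := (core_le_of_family hconj hcomm hE).trans hQT
    refine block_core_le T hp2 M hD (hM M hMco.1 hTM) hTM (hblk E hE) hEQ fun t ht htc => ?_
    rcases hkind E hE with ⟨F, _, _, m, -, -, -, hC⟩ | ⟨h, -⟩ | ⟨-, -, hC⟩
    · refine hstar ((hC.ge ?_ : t ∈ Cfsg.cStarOf p (T : Subgroup L) ⊓ E).1)
      refine Subgroup.mem_inf.2 ⟨ht, ?_⟩
      have key : ∀ s ∈ E, (∀ e ∈ E, ⁅e, s⁆ ∈ Cfsg.pCoreOf p E) → ∀ x ∈ (T : Subgroup L) ⊓ E,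
          s * x * s⁻¹ ∈ (T : Subgroup L) ⊓ E := by
        intro s hs hsc x hx
        rw [Subgroup.mem_inf] at hx ⊢
        refine ⟨?_, mul_mem (mul_mem hs hx.2) (inv_mem hs)⟩
        rw [show s * x * s⁻¹ = ⁅x, s⁆⁻¹ * x by simp only [commutatorElement_def]; group]
        exact mul_mem (inv_mem (hEQ (hsc x hx.2))) hx.1
      rw [← Cfsg.Lib.Transfer.map_conj_eq_self_iff]
      refine eq_of_le_of_card_ge ?_ (Cfsg.Lib.Transfer.card_map_conj _ t).ge
      rintro _ ⟨x, hx, rfl⟩
      exact key t ht htc x hx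
    · exact absurd h hp2
    · have hmem : QuotientGroup.mk' (Cfsg.pCore p ↥E) (⟨t, ht⟩ : ↥E) ∈
          center (↥E ⧸ Cfsg.pCore p ↥E) := by
        rw [mem_center_iff]
        intro y
        obtain ⟨e, rfl⟩ := QuotientGroup.mk'_surjective _ y
        rw [← commutatorElement_eq_one_iff_mul_comm, ← map_commutatorElement, QuotientGroup.mk'_apply,
          QuotientGroup.eq_one_iff]
        obtain ⟨z, hz1, hz2⟩ := htc e e.2
        exact (show z = ⁅e, ⟨t, ht⟩⁆ from Subtype.ext hz2) ▸ hz1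
      rw [← hC] at hmem
      obtain ⟨c, hc, hct⟩ := hmem
      rw [SetLike.mem_coe, mem_subgroupOf] at hc
      rw [QuotientGroup.mk'_apply, QuotientGroup.mk'_apply, QuotientGroup.eq] at hct
      have hq : ((c⁻¹ * ⟨t, ht⟩ : ↥E) : L) ∈ M := hTM (hEQ ⟨_, hct, rfl⟩)
      have := mul_mem (hstar hc.1) hq
      simpa using this
  refine hfin ((Cfsg.cStarOf p (T : Subgroup L) : Set L) ∪ ⋃ E ∈ 𝓑, {g | g ∈ E ∧ (orderOf g).Coprime p}) ?_ ?_
  · refine top_le_iff.1 (hgen.ge.trans (sup_le (fun g hg => subset_closure (Or.inl hg)) (sSup_le fun E hE => ?_)))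
    conv_lhs => rw [← Cfsg.Lib.BlockBasic.closure_coprime_elements (hblk E hE).1]
    exact closure_mono fun g hg => Or.inr (Set.mem_biUnion hE hg)
  intro g hg q hq
  rcases hg with hg | hg
  · exact hfixM M hMco.1 hTM g (hstar hg) q hq
  simp only [Set.mem_iUnion] at hg
  obtain ⟨E, hE, hgE, hgp⟩ := hg
  have hcQ : ⁅q, g⁆ ∈ Q := by
    rw [show ⁅q, g⁆ = q * (g * q⁻¹ * g⁻¹) by simp only [commutatorElement_def]; group]
    exact mul_mem hq (Normal.conj_mem inferInstance _ (inv_mem hq) g)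
  by_cases he : E.map (MulAut.conj q).toMonoidHom = E
  · refine hED E hE ?_
    have hmem : ⁅q, g⁆ ∈ Q ⊓ E := by
      refine Subgroup.mem_inf.2 ⟨hcQ, ?_⟩
      rw [commutatorElement_def]
      exact mul_mem (he ▸ ⟨g, hgE, rfl⟩) (inv_mem hgE)
    have hle' : (Q.subgroupOf E) ≤ Cfsg.pCore p ↥E := le_sSup ⟨inferInstance, hQp.comap_subtype⟩
    exact ⟨⟨_, hmem.2⟩, hle' (mem_subgroupOf.2 hmem.1), rfl⟩
  · have hne : E.map (MulAut.conj q).toMonoidHom ≠ E := he
    have hc : Commute (q * g * q⁻¹) g⁻¹ :=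
      (show Commute (q * g * q⁻¹) g from
        (mem_centralizer_iff.1 (commutator_eq_bot_iff_le_centralizer.1 (hcomm _ (hconj E hE q) E hE hne)
          ⟨g, hgE, rfl⟩) g hgE).symm).inv_right
    have hord : (orderOf ⁅q, g⁆).Coprime p := by
      refine Nat.Coprime.coprime_dvd_left ?_ hgp
      refine orderOf_dvd_of_pow_eq_one ?_
      rw [commutatorElement_def, hc.mul_pow, conj_pow, pow_orderOf_eq_one, inv_pow, pow_orderOf_eq_one]
      simp
    rw [mem_of_coprime_pow hord hQp hcQ]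
    exact one_mem D

end Cfsg.Lib.PushUpTransfer
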