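import Cfsg.Agent.S2982
import Cfsg.Agent.S0602
import Cfsg.Agent.Components.Functor.Transfer

/-!
Transfer in a `p`-minimal group pushed up by Baumann blocks: for odd `p` the radical of a block is moved by an
involution of a maximal subgroup, so it contributes nothing beyond that subgroup.
-/

set_option autoImplicit false
set_option linter.style.haveILetI false

namespace Cfsg.Lib.PushUpTransfer

open Subgroup
open scoped commutatorElement

universe u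

theorem exists_comm_eq_neg_one {F : Type} [Field F] [Fintype F] (h2 : (2 : F) ≠ 0) :
    ∃ m : Matrix.SpecialLinearGroup (Fin 2) F, m ∈ commutator (Matrix.SpecialLinearGroup (Fin 2) F) ∧
      (m : Matrix (Fin 2) (Fin 2) F) = -1 := by
  classical
  obtain ⟨x, y, hxy⟩ : ∃ x y : F, x ^ 2 + y ^ 2 = -1 := by
    have hodd : ringChar F ≠ 2 := fun h => h2 (by
      have := ringChar.Nat.cast_ringChar (R := F)
      rw [h] at this
      exact_mod_cast this)
    obtain ⟨a, b, hab⟩ := FiniteField.exists_root_sum_quadratic (R := F)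
      (f := Polynomial.X ^ 2) (g := Polynomial.X ^ 2 + Polynomial.C 1) (Polynomial.degree_X_pow 2)
      (Polynomial.degree_X_pow_add_C (by norm_num) 1) (FiniteField.odd_card_of_char_ne_two hodd)
    exact ⟨a, b, by simp at hab; linear_combination hab⟩
  obtain ⟨a, ha⟩ : ∃ a : Matrix.SpecialLinearGroup (Fin 2) F, a.1 = !![0, -1; 1, 0] :=
    ⟨⟨_, by simp [Matrix.det_fin_two]⟩, rfl⟩
  obtain ⟨b, hb⟩ : ∃ b : Matrix.SpecialLinearGroup (Fin 2) F, b.1 = !![x, y; y, -x] :=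
    ⟨⟨_, by rw [Matrix.det_fin_two_of]; linear_combination -hxy⟩, rfl⟩
  refine ⟨⁅a, b⁆, commutator_mem_commutator (mem_top a) (mem_top b), ?_⟩
  have h : (a * b).1 = -((b * a).1) := by
    ext i j
    fin_cases i <;> fin_cases j <;> simp [ha, hb, Matrix.mul_apply]
  have e : ⁅a, b⁆ = (a * b) * (b * a)⁻¹ := by rw [commutatorElement_def]; group
  rw [e]
  show (a * b).1 * ((b * a)⁻¹).1 = -1
  rw [h, neg_mul]
  show -(((b * a) * (b * a)⁻¹).1) = -1
  rw [mul_inv_cancel]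
  rfl

variable {p : ℕ} [hp : Fact p.Prime] {L : Type u} [Group L] [Finite L]

omit hp [Finite L] in
theorem mem_of_coprime_pow {x : L} (h : (orderOf x).Coprime p) {P : Subgroup L} (hP : IsPGroup p P)
    (hx : x ∈ P) : x = 1 := by
  obtain ⟨k, hk⟩ := hP ⟨x, hx⟩
  rw [← orderOf_eq_one_iff]
  exact Nat.eq_one_of_dvd_coprimes (h.pow_right k) dvd_rfl
    (orderOf_dvd_of_pow_eq_one (congrArg Subtype.val hk))

omit hp [Finite L] in
theorem omegaCenter_le (p : ℕ) (X : Subgroup L) : Cfsg.omegaOneCenter p X ≤ X :=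
  (closure_le _).2 fun _ h => h.1.1

omit hp [Finite L] in
theorem omegaCenter_comm (p : ℕ) (X : Subgroup L) {w x : L} (hw : w ∈ Cfsg.omegaOneCenter p X) (hx : x ∈ X) :
    x * w = w * x := by
  have h : Cfsg.omegaOneCenter p X ≤ centralizer (X : Set L) := (closure_le _).2 fun _ h => h.1.2
  exact mem_centralizer_iff.1 (h hw) x hx

section Section

variable {E U U₀ : Subgroup L} {F : Type} [Field F] [Fintype F]

omit hp in
/-- The central involution of the quotient moves every element of a natural section. -/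
theorem section_le (hiso : Nonempty (↥E ⧸ Cfsg.pCore p ↥E ≃* ↥(commutator (Matrix.SpecialLinearGroup (Fin 2) F))))
    (h2 : (2 : F) ≠ 0) (h : Cfsg.ActsAsSL2OnSection F (commutator (Matrix.SpecialLinearGroup (Fin 2) F)) E U U₀)
    (hQ : ∀ x ∈ Cfsg.pCoreOf p E, ∀ u ∈ U, ⁅x, u⁆ ∈ U₀) :
    ∃ t ∈ E, (∀ e ∈ E, ⁅e, t⁆ ∈ Cfsg.pCoreOf p E) ∧
      ∀ u ∈ U, ∃ v ∈ U, ∃ z ∈ U₀, u = ⁅t, v⁆ * z := by
  classical
  obtain ⟨hEU, hU0, ρ, ψ, hρ, hψ, hker, hact⟩ := h
  obtain ⟨φ⟩ := hiso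
  have hQk : Cfsg.pCore p ↥E ≤ ρ.ker := fun x hx => by
    rw [MonoidHom.mem_ker]
    have hfix : ∀ v : Fin 2 → F, (ρ x : Matrix (Fin 2) (Fin 2) F).mulVec v = v := by
      intro v
      obtain ⟨u, hu⟩ := hψ (Multiplicative.ofAdd v)
      obtain ⟨w, hw, hwu⟩ := hact x u
      have h1 : ψ (w * u⁻¹) = 1 := (hker _).2 (by
        rw [Subgroup.coe_mul, Subgroup.coe_inv, hw]
        exact hQ x ⟨x, hx, rfl⟩ u u.2)
      rw [map_mul, map_inv, mul_inv_eq_one] at h1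
      rw [h1, hu, toAdd_ofAdd] at hwu
      exact hwu.symm
    refine Subtype.ext (Matrix.ext_iff_mulVec.2 fun v => ?_)
    rw [hfix, Matrix.SpecialLinearGroup.coe_one, Matrix.one_mulVec]
  have hkerρ : ρ.ker = Cfsg.pCore p ↥E := by
    refine (eq_of_le_of_card_ge hQk ?_).symm
    have h1 := card_eq_card_quotient_mul_card_subgroup ρ.ker
    have h2 := card_eq_card_quotient_mul_card_subgroup (Cfsg.pCore p ↥E)
    rw [Nat.card_congr (QuotientGroup.quotientKerEquivRange ρ).toEquiv, hρ] at h1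
    rw [Nat.card_congr φ.toEquiv] at h2
    exact (Nat.eq_of_mul_eq_mul_left Nat.card_pos (h1.symm.trans h2)).le
  obtain ⟨m, hmR, hm⟩ := exists_comm_eq_neg_one (F := F) h2
  obtain ⟨t, ht⟩ : m ∈ ρ.range := hρ.symm ▸ hmR
  refine ⟨t, t.2, fun e he => ?_, fun u hu => ?_⟩
  · have h1 : ⁅(⟨e, he⟩ : ↥E), t⁆ ∈ ρ.ker := by
      rw [MonoidHom.mem_ker, map_commutatorElement, ht, commutatorElement_eq_one_iff_mul_comm]
      refine Subtype.ext ?_
      show (ρ ⟨e, he⟩).1 * m.1 = m.1 * (ρ ⟨e, he⟩).1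
      rw [hm, mul_neg_one, neg_one_mul]
    rw [hkerρ] at h1
    exact ⟨_, h1, rfl⟩
  · obtain ⟨v, hv⟩ := hψ (Multiplicative.ofAdd ((-2 : F)⁻¹ • Multiplicative.toAdd (ψ ⟨u, hu⟩)))
    obtain ⟨w, hw, hwv⟩ := hact t v
    rw [ht, hm, Matrix.neg_mulVec, Matrix.one_mulVec] at hwv
    have hc : ⁅(t : L), (v : L)⁆ = ((w * v⁻¹ : U) : L) := by
      rw [Subgroup.coe_mul, Subgroup.coe_inv, hw, commutatorElement_def]
    refine ⟨v, v.2, (((w * v⁻¹)⁻¹ * ⟨u, hu⟩ : U) : L), (hker _).1 ?_, by rw [hc]; simp; group⟩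
    apply Multiplicative.toAdd.injective
    rw [ψ.map_mul, ψ.map_inv, ψ.map_mul, ψ.map_inv, toAdd_mul, toAdd_inv, toAdd_mul, toAdd_inv, hwv, hv, toAdd_ofAdd,
      toAdd_one]
    funext i
    simp only [Pi.add_apply, Pi.neg_apply, Pi.smul_apply, smul_eq_mul, Pi.zero_apply]
    field_simp
    ring

end Section

omit hp [Finite L] in
theorem le_normalizer_core (p : ℕ) (E : Subgroup L) : E ≤ normalizer (Cfsg.pCoreOf p E : Set L) := by
  intro e he
  refine le_normalizer_map E.subtype ⟨⟨e, he⟩, ?_, rfl⟩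
  rw [normalizer_eq_top]
  exact mem_top _

variable (T : Sylow p L) {D : Subgroup L}

/-- The radical of a block lies in `D`. -/
theorem block_core_le (hp2 : p ≠ 2) (M : Subgroup L) (hD : ⁅(T : Subgroup L), (T : Subgroup L)⁆ ≤ D)
    (hMD : (T : Subgroup L) ⊓ ⁅M, M⁆ ≤ D) (hTM : (T : Subgroup L) ≤ M) {E : Subgroup L}
    (hE : Cfsg.IsBaumannBlock p (T : Subgroup L) E) (hQT : Cfsg.pCoreOf p E ≤ (T : Subgroup L))
    (hcen : ∀ t ∈ E, (∀ e ∈ E, ⁅e, t⁆ ∈ Cfsg.pCoreOf p E) → t ∈ M) : Cfsg.pCoreOf p E ≤ D := by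
  obtain ⟨-, -, hQE, -, hkind⟩ := hE
  rcases hkind with ⟨F, _, _, n, hF, hiso, hsec, hcase⟩ | ⟨h, -⟩
  swap
  · exact absurd h hp2
  have h2 : (2 : F) ≠ 0 := by
    haveI : CharP F p := charP_of_card_eq_prime_pow hF
    intro h
    have h' := (CharP.cast_eq_zero_iff F p 2).1 (by exact_mod_cast h)
    exact hp2 ((Nat.prime_dvd_prime_iff_eq hp.out Nat.prime_two).1 h')
  set Q := Cfsg.pCoreOf p E
  set W := Cfsg.omegaOneCenter p Q
  set Z := W ⊓ centralizer (E : Set L)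
  have hWQ : W ≤ Q := omegaCenter_le p Q
  have hmove : ∀ t ∈ E, (∀ e ∈ E, ⁅e, t⁆ ∈ Q) → ∀ v ∈ Q, ⁅v, t⁆ ∈ D → ⁅t, v⁆ ∈ D := fun t _ _ v _ h => by
    rw [← commutatorElement_inv]; exact inv_mem h
  have hmem : ∀ t ∈ E, (∀ e ∈ E, ⁅e, t⁆ ∈ Q) → ∀ v ∈ Q, ⁅t, v⁆ ∈ D := fun t htE htc v hv =>
    hmove t htE htc v hv (hMD ⟨hQT (by
      have hn : E ≤ normalizer (Q : Set L) := le_normalizer_core p E
      rw [show ⁅v, t⁆ = v * (t * v⁻¹ * t⁻¹) by simp only [commutatorElement_def]; group]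
      exact mul_mem hv ((mem_normalizer_iff.1 (hn htE) _).1 (inv_mem hv))),
      commutator_mem_commutator (hTM (hQT hv)) (hcen t htE htc)⟩)
  obtain ⟨t, htE, htc, hsurj⟩ := section_le (p := p) hiso h2 hsec fun x hx u hu => by
    rw [commutatorElement_eq_one_iff_mul_comm.2 (omegaCenter_comm p Q hu hx)]
    exact one_mem _
  rcases hcase with hQW | ⟨-, hsec', hQQ, -⟩
  · -- `Q = W`
    rw [← hQE]
    refine commutator_le.2 fun w hw e he => ?_
    obtain ⟨v, hv, z, hz, rfl⟩ := hsurj w (hQW ▸ hw)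
    have hze : z * e = e * z := (mem_centralizer_iff.1 hz.2 e he).symm
    have h1 : ⁅⁅t, v⁆ * z, e⁆ = ⁅⁅t, v⁆, e⁆ := by
      calc ⁅⁅t, v⁆ * z, e⁆ = ⁅t, v⁆ * (z * e) * z⁻¹ * ⁅t, v⁆⁻¹ * e⁻¹ := by
            simp only [commutatorElement_def]; group
        _ = ⁅t, v⁆ * (e * z) * z⁻¹ * ⁅t, v⁆⁻¹ * e⁻¹ := by rw [hze]
        _ = _ := by simp only [commutatorElement_def]; group
    rw [h1]
    have hqe : ⁅e, t⁆ ∈ Q := htc e he
    have hn : E ≤ normalizer (W : Set L) := hsec.1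
    have hv' : e * v * e⁻¹ ∈ W := (mem_normalizer_iff.1 (hn he) v).1 hv
    have htv' : t * (e * v * e⁻¹) * t⁻¹ ∈ W := (mem_normalizer_iff.1 (hn htE) _).1 hv'
    have h2 : e * ⁅t, v⁆ * e⁻¹ = ⁅t, e * v * e⁻¹⁆ := by
      have hc := omegaCenter_comm p Q htv' hqe
      calc e * ⁅t, v⁆ * e⁻¹ = ⁅e, t⁆ * (t * (e * v * e⁻¹) * t⁻¹) * ⁅e, t⁆⁻¹ * (e * v * e⁻¹)⁻¹ := by
            simp only [commutatorElement_def]; group
        _ = (t * (e * v * e⁻¹) * t⁻¹) * ⁅e, t⁆ * ⁅e, t⁆⁻¹ * (e * v * e⁻¹)⁻¹ := by rw [hc]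
        _ = _ := by simp only [commutatorElement_def]; group
    rw [show ⁅⁅t, v⁆, e⁆ = ⁅t, v⁆ * (e * ⁅t, v⁆ * e⁻¹)⁻¹ by simp only [commutatorElement_def]; group, h2]
    exact mul_mem (hmem t htE htc v (hWQ hv)) (inv_mem (hmem t htE htc _ (hWQ hv')))
  · -- the exceptional block
    have hZD : Z ≤ D := hQQ ▸ (commutator_mono hQT hQT).trans hD
    have hWD : W ≤ D := fun w hw => by
      obtain ⟨v, hv, z, hz, rfl⟩ := hsurj w hw
      exact mul_mem (hmem t htE htc v (hWQ hv)) (hZD hz)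
    obtain ⟨t', ht'E, ht'c, hsurj'⟩ := section_le (p := p) hiso h2 hsec' fun x hx u hu =>
      (inf_le_left : Z ≤ W) (hQQ.le (commutator_mem_commutator hx hu))
    intro q hq
    obtain ⟨v, hv, z, hz, rfl⟩ := hsurj' q hq
    exact mul_mem (hmem t' ht'E ht'c v hv) (hWD hz)

end Cfsg.Lib.PushUpTransfer
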