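import Cfsg.Agent.PushUpTransfer.Crit
import Cfsg.Agent.Components.Functor.TransferApply

/-!
At odd primes the characteristic subgroups of a Sylow subgroup control transfer.
-/

set_option autoImplicit false
set_option linter.style.haveILetI false

namespace Cfsg.Lib.PushUpTransfer

open Subgroup
open scoped commutatorElement
open Cfsg.Lib.Functor (TCtrl ind)
open Cfsg.Lib.Control (tgtIn)

universe u

/-- all isomorphism-invariant `p`-group functors -/
def allW (p : ℕ) : Set (∀ (Q : Type u) [Group Q], Subgroup Q) := {W | Cfsg.IsCharPFunctor.{u} p W}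

open scoped _root_.Classical in
/-- the functor taking the value `C` on the groups isomorphic to `S` -/
noncomputable def valW (S : Type u) [Group S] (C : Subgroup S) (Q : Type u) [Group Q] : Subgroup Q :=
  if h : Nonempty (S ≃* Q) then C.map h.some.toMonoidHom else center Q

theorem valW_eq {S : Type u} [Group S] (C : Subgroup S) [C.Characteristic] {Q : Type u} [Group Q] (e : S ≃* Q) :
    valW S C Q = C.map e.toMonoidHom := by
  classical
  have h : Nonempty (S ≃* Q) := ⟨e⟩
  rw [valW, dif_pos h]
  set f := h.some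
  have hc := characteristic_iff_map_eq.1 (inferInstance : C.Characteristic) (f.trans e.symm)
  conv_rhs => rw [← hc, map_map]
  congr 1
  ext x
  simp

theorem valW_isCharPFunctor {p : ℕ} [Fact p.Prime] (S : Type u) [Group S] (C : Subgroup S) [C.Characteristic]
    (hC : C ≠ ⊥) : Cfsg.IsCharPFunctor.{u} p (valW S C) := by
  classical
  refine ⟨fun Q _ _ hQ hnt => ?_, fun Q R _ _ _ hQ φ => ?_⟩
  · by_cases h : Nonempty (S ≃* Q)
    · rw [valW_eq C h.some, Ne, map_eq_bot_iff_of_injective _ h.some.injective]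
      exact hC
    · haveI := hnt
      rw [valW, dif_neg h]
      exact (nontrivial_iff_ne_bot _).1 hQ.center_nontrivial
  · by_cases h : Nonempty (S ≃* Q)
    · rw [valW_eq C h.some, valW_eq C (h.some.trans φ), map_map]
      rfl
    · rw [valW, valW, dif_neg h, dif_neg (fun h' => h ⟨h'.some.trans φ.symm⟩)]
      ext y
      rw [mem_map_equiv, mem_center_iff, mem_center_iff]
      constructor
      · intro hy r
        apply φ.symm.injective
        rw [map_mul, map_mul]
        exact hy _
      · intro hy q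
        apply φ.injective
        rw [map_mul, map_mul, φ.apply_symm_apply]
        exact hy _

theorem tctrl_all {p : ℕ} [Fact p.Prime] (hp2 : p ≠ 2) (G : Type u) [Group G] [Finite G] :
    TCtrl p (allW.{u} p) G := by
  classical
  refine Cfsg.Lib.Functor.ctrlT_main (fun W hW => hW) _ G rfl fun L _ _ _ hc hMsub T => ?_
  set D := tgtIn (ind (allW.{u} p) L) ⊤ (T : Subgroup L) with hD
  by_cases hT : (T : Subgroup L) = ⊥
  · have := Cfsg.Lib.Coprime.pCore_le_sylow (G := L) p T
    rw [hT, le_bot_iff] at this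
    rw [this, bot_inf_eq]
    exact bot_le
  have hval : ∀ C : Subgroup L, C ≤ (T : Subgroup L) → C ≠ ⊥ → (C.subgroupOf (T : Subgroup L)).Characteristic →
      (T : Subgroup L) ⊓ ⁅normalizer (C : Set L), normalizer (C : Set L)⁆ ≤ D := by
    intro C hC hC1 hCc
    haveI := hCc
    have hne : C.subgroupOf (T : Subgroup L) ≠ ⊥ := fun h => hC1 (by
      rw [← map_subgroupOf_eq_of_le hC, h, Subgroup.map_bot])
    have hW := valW_isCharPFunctor (p := p) _ _ hne
    have hind : Cfsg.inducedFunctor (valW _ (C.subgroupOf (T : Subgroup L))) (T : Subgroup L) = C := by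
      rw [Cfsg.inducedFunctor, valW_eq _ (MulEquiv.refl _)]
      show ((C.subgroupOf (T : Subgroup L)).map (MonoidHom.id _)).map (T : Subgroup L).subtype = C
      rw [Subgroup.map_id, map_subgroupOf_eq_of_le hC]
    refine le_trans (le_of_eq ?_) (le_iSup₂ (f := fun (W : Subgroup L → Subgroup L) (_ : W ∈ ind (allW.{u} p) L) =>
      (T : Subgroup L) ⊓ ⁅⊤ ⊓ normalizer ((W (T : Subgroup L) : Subgroup L) : Set L),
        ⊤ ⊓ normalizer ((W (T : Subgroup L) : Subgroup L) : Set L)⁆) _ ⟨_, hW, rfl⟩)
    simp only [hind, top_inf_eq]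
  have hTD := hval _ le_rfl hT (by rw [subgroupOf_self]; infer_instance)
  by_cases hex : ∃ C : Subgroup L, C ≤ (T : Subgroup L) ∧ C ≠ ⊥ ∧
      (C.subgroupOf (T : Subgroup L)).Characteristic ∧ C.Normal
  · obtain ⟨C, h1, h2, h3, h4⟩ := hex
    refine le_trans ?_ (hval C h1 h2 h3)
    rw [normalizer_eq_top_iff.2 h4, ← _root_.commutator_def]
    exact inf_le_inf_right _ (Cfsg.Lib.Coprime.pCore_le_sylow p T)
  push Not at hex
  refine crit hp2 hc T D (le_trans ?_ hTD) (fun M hM hTM => ?_) hex
  · exact le_inf (commutator_le_self _) (commutator_mono le_normalizer le_normalizer)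
  · exact (Cfsg.Lib.Functor.transfer_in_subgroup (fun W hW => hW) hTM T.2 (fun hd => T.not_dvd_index
      (hd.trans (relIndex_dvd_index_of_le hTM))) (hMsub M hM)).trans Cfsg.Lib.Control.tgtIn_le_top

theorem inf_commutator_eq_iSup {G : Type u} [Group G] [Finite G] {p : ℕ} [Fact p.Prime] (hp2 : p ≠ 2)
    (S : Sylow p G) (hS : (S : Subgroup G) ≠ ⊥) :
    (S : Subgroup G) ⊓ commutator G = ⨆ K : {K : Subgroup ↥(S : Subgroup G) // K ≠ ⊥ ∧ K.Characteristic},
      (S : Subgroup G) ⊓
        ⁅normalizer ((((K : Subgroup ↥(S : Subgroup G))).map (S : Subgroup G).subtype : Subgroup G) : Set G),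
          normalizer ((((K : Subgroup ↥(S : Subgroup G))).map (S : Subgroup G).subtype : Subgroup G) : Set G)⁆ := by
  refine le_antisymm ((tctrl_all hp2 G S).trans ?_) (iSup_le fun K => inf_le_inf_left _ ?_)
  · refine iSup₂_le fun W' hW' => ?_
    obtain ⟨W, hW, rfl⟩ := hW'
    rw [top_inf_eq]
    haveI : Nontrivial ↥(S : Subgroup G) := (nontrivial_iff_ne_bot _).2 hS
    exact le_iSup_of_le (ι := {K : Subgroup ↥(S : Subgroup G) // K ≠ ⊥ ∧ K.Characteristic})
      ⟨W ↥(S : Subgroup G), hW.1 _ S.2 inferInstance,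
        characteristic_iff_map_eq.2 fun φ => hW.2 _ _ S.2 φ⟩ le_rfl
  · rw [_root_.commutator_def]
    exact commutator_mono le_top le_top

end Cfsg.Lib.PushUpTransfer
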